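import Cfsg.Agent.H672.Four.InterfaceB
import Cfsg.Agent.H671.Frame
import Cfsg.Agent.H671.Tensor
import Cfsg.Agent.H670.Palfy.Base
import Cfsg.Agent.S0205

/-!
# S4773, piece G (task 2541): a coprime element acting trivially modulo the solvable radical (helper248)
-/

set_option autoImplicit false

namespace Cfsg.Agent.H248.Four

open Subgroup Cfsg.Agent.H672.Four
open scoped Pointwise

universe u

/-- A normal subgroup `M ≤ X` has a Sylow `p`-subgroup centralised by `x` if `p` does not divide `|X : C_X(x)|`. -/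
theorem exists_fixed_sylow {H : Type u} [Group H] [Finite H] (X M : Subgroup H) [hM : M.Normal] (hMX : M ≤ X)
    (x : H) (p : ℕ) [Fact p.Prime] (hp : ¬ p ∣ (centralizer ({x} : Set H)).relIndex X) :
    ∃ V : Sylow p M, ∀ v : M, v ∈ V → x * (v : H) * x⁻¹ = v := by
  obtain ⟨Q, hQ⟩ := H670.Palfy.exists_sylow_le (z := p) ((centralizer ({x} : Set H)).subgroupOf X) hp
  obtain ⟨V0⟩ : Nonempty (Sylow p M) := inferInstance
  have hW : IsPGroup p (((V0 : Subgroup M).map M.subtype).subgroupOf X) := by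
    refine IsPGroup.comap_of_injective (V0.isPGroup'.map M.subtype) X.subtype X.subtype_injective
  obtain ⟨Q', hQ'⟩ := hW.exists_le_sylow
  obtain ⟨g, rfl⟩ := MulAction.exists_smul_eq X Q Q'
  refine ⟨(MulAut.conjNormal (H := M) ((g : H)⁻¹)) • V0, ?_⟩
  intro v hv
  have hv1 : v ∈ (MulAut.conjNormal (H := M) ((g : H)⁻¹)) • (V0 : Subgroup M) := hv
  rw [Subgroup.mem_smul_pointwise_iff_exists] at hv1
  obtain ⟨w, hw, rfl⟩ := hv1
  have h1 : (⟨(w : H), hMX w.2⟩ : X) ∈ ((g • Q : Sylow p X) : Subgroup X) := by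
    apply hQ'
    rw [mem_subgroupOf]
    exact ⟨w, hw, rfl⟩
  rw [H670.Palfy.mem_smul_sylow] at h1
  have h2 := hQ h1
  rw [mem_subgroupOf, mem_centralizer_iff] at h2
  have h3 := h2 x rfl
  rw [MulAut.smul_def, MulAut.conjNormal_apply]
  simp only [coe_mul, InvMemClass.coe_inv] at h3
  have h4 : x * ((g : H)⁻¹ * (w : H) * g) * x⁻¹ = (g : H)⁻¹ * (w : H) * g := by
    rw [h3]; group
  rw [inv_inv]
  exact h4

/-- The main step: an automorphism of `S ^ k` of prime order prime to `|S|`. -/
theorem main_step (hO : FactOut.{u}) {M : Type u} [Group M] [Finite M] {S : Type u} [Group S] [Finite S]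
    [IsSimpleGroup S] (hna : ¬ IsMulCommutative S) {k : ℕ} (e : M ≃* (Fin k → S)) (φ : MulAut M) (t : ℕ)
    (ht : t.Prime) (hφt : φ ^ t = 1) (hφ : φ ≠ 1) (htM : ¬ t ∣ Nat.card M)
    (hfix : ∀ p : ℕ, ∀ [Fact p.Prime], ¬ t ∣ p - 1 → ∃ V : Sylow p M, ∀ v ∈ V, φ v = v) : False := by
  set ψ : MulAut (Fin k → S) := (e.symm.trans φ).trans e with hψ
  have hψa : ∀ v, ψ v = e (φ (e.symm v)) := fun v => rfl
  obtain ⟨σ, a, h⟩ := H671.Tensor.exists_components hna ψ
  have h2S : 2 ∣ Nat.card S := by
    by_contra h2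
    have h3 : Odd (Nat.card S) := Nat.odd_iff.2 (by omega)
    have h4 := S0205.result h3
    exact hna ⟨⟨fun a b => (IsSimpleGroup.comm_iff_isSolvable (G := S)).2 h4 a b⟩⟩
  -- the permutation is trivial
  have hσ : ∀ i, σ i = i := by
    intro i
    by_contra hne
    have : Fact (Nat.Prime 2) := ⟨Nat.prime_two⟩
    obtain ⟨V, hV⟩ := hfix 2 (by
      intro h1
      have := Nat.le_of_dvd (by norm_num) h1
      have := ht.two_le
      omega)
    obtain ⟨z, hz⟩ := exists_prime_orderOf_dvd_card' 2 h2S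
    set w : M := e.symm (Pi.mulSingle (σ i) z) with hw
    have hw2 : w ^ 2 = 1 := by
      rw [hw, ← map_pow, ← Pi.mulSingle_pow, ← hz, pow_orderOf_eq_one, Pi.mulSingle_one, map_one]
    have hwp : IsPGroup 2 (zpowers w) := by
      rintro ⟨g, n, rfl⟩
      refine ⟨1, Subtype.ext ?_⟩
      show (w ^ n) ^ (2 ^ 1) = 1
      rw [pow_one, ← zpow_natCast, ← zpow_mul, mul_comm, zpow_mul, zpow_natCast, hw2, one_zpow]
    obtain ⟨Q, hQ⟩ := hwp.exists_le_sylow
    obtain ⟨g, rfl⟩ := MulAction.exists_smul_eq M V Q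
    have h1 : w ∈ ((g • V : Sylow 2 M) : Subgroup M) := hQ (mem_zpowers w)
    rw [H670.Palfy.mem_smul_sylow] at h1
    have h3 := hV _ h1
    have h4 := h (e (g⁻¹ * w * g)) i
    rw [hψa, e.symm_apply_apply, h3] at h4
    have h5 : e (g⁻¹ * w * g) i = 1 := by
      rw [map_mul, map_mul, hw, e.apply_symm_apply, map_inv, Pi.mul_apply, Pi.mul_apply, Pi.inv_apply,
        Pi.mulSingle_eq_of_ne (Ne.symm hne)]
      group
    rw [h5, map_one, map_mul, map_mul, hw, e.apply_symm_apply, map_inv, Pi.mul_apply, Pi.mul_apply, Pi.inv_apply,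
      Pi.mulSingle_eq_same] at h4
    have h6 : z = 1 := by
      have : z = (e g (σ i)) * ((e g (σ i))⁻¹ * z * e g (σ i)) * (e g (σ i))⁻¹ := by group
      rw [this, h4]; group
    rw [h6, orderOf_one] at hz
    omega
  have h' : ∀ (v : Fin k → S) (i : Fin k), ψ v i = a i (v i) := by
    intro v i
    have := h v i
    rwa [hσ i] at this
  -- some component is nontrivial
  obtain ⟨i, hi⟩ : ∃ i, a i ≠ 1 := by
    by_contra hcon
    push Not at hcon
    apply hφ
    apply MulEquiv.ext
    intro m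
    rw [MulAut.one_apply]
    apply e.injective
    funext i
    have := h' (e m) i
    rw [hψa, e.symm_apply_apply, hcon i, MulAut.one_apply] at this
    exact this
  have hpow : ∀ (n : ℕ) (v : Fin k → S), (ψ ^ n) v i = (a i ^ n) (v i) := by
    intro n
    induction n with
    | zero => intro v; simp
    | succ n ih => intro v; rw [pow_succ, MulAut.mul_apply, ih, h', pow_succ, MulAut.mul_apply]
  have hψpow : ∀ (n : ℕ) (v : Fin k → S), (ψ ^ n) v = e ((φ ^ n) (e.symm v)) := by
    intro n
    induction n with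
    | zero => intro v; simp
    | succ n ih => intro v; rw [pow_succ, MulAut.mul_apply, ih, hψa, e.symm_apply_apply, pow_succ, MulAut.mul_apply]
  have hat : a i ^ t = 1 := by
    apply MulEquiv.ext
    intro s
    have h1 := hpow t (Pi.mulSingle i s)
    rw [hψpow, hφt, MulAut.one_apply, e.apply_symm_apply, Pi.mulSingle_eq_same] at h1
    rw [← h1, MulAut.one_apply]
  have : Fact t.Prime := ⟨ht⟩
  have hord : orderOf (a i) = t := orderOf_eq_prime hat hi
  have htS : ¬ t ∣ Nat.card S := by
    intro h1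
    apply htM
    rw [Nat.card_congr e.toEquiv, Nat.card_fun]
    exact dvd_pow h1 (by
      have := i.2
      simp only [Nat.card_eq_fintype_card, Fintype.card_fin]
      omega)
  obtain ⟨r, hr, hrd, hrt⟩ := hO S hna (a i) (by rw [hord]; exact ht) (by rw [hord]; exact htS)
  rw [hord] at hrt
  have : Fact r.Prime := ⟨hr⟩
  obtain ⟨V, hV⟩ := hfix r hrt
  set f : M →* S := (Pi.evalMonoidHom (fun _ : Fin k => S) i).comp e.toMonoidHom with hf
  have hfs : Function.Surjective f := by
    intro s
    refine ⟨e.symm (Pi.mulSingle i s), ?_⟩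
    rw [hf]
    simp
  have hidx : ((FixA (a i)).comap f).index = (FixA (a i)).index := index_comap_of_surjective _ hfs
  have hle : (V : Subgroup M) ≤ (FixA (a i)).comap f := by
    intro v hv
    rw [mem_comap, mem_FixA]
    have h1 := h' (e v) i
    rw [hψa, e.symm_apply_apply, hV v hv] at h1
    exact h1.symm
  apply V.not_dvd_index
  rw [← hidx] at hrd
  exact hrd.trans (index_dvd_of_le hle)

/-- The case without solvable normal subgroups. -/
theorem centralizes (hO : FactOut.{u}) (H : Type u) [Group H] [Finite H] (X : Subgroup H) [hX : X.Normal] (x : H)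
    (hx : (orderOf x).Prime) (hxX : ¬ orderOf x ∣ Nat.card X)
    (hind : ∀ r : ℕ, r.Prime → r ∣ (centralizer ({x} : Set H)).relIndex X → orderOf x ∣ r - 1)
    (hR : ∀ R : Subgroup H, R.Normal → R ≤ X → Group.IsSolvable R → R = ⊥) :
    ∀ g ∈ X, x * g * x⁻¹ * g⁻¹ = 1 := by
  -- a minimal normal subgroup not centralised by `x`
  obtain hall | ⟨M, hMn, hMX, hM0, hmin, m, hm, hmx⟩ :
      (∀ M : Subgroup H, M.Normal → M ≤ X → M ≠ ⊥ → (∀ L : Subgroup H, L.Normal → L ≤ M → L = ⊥ ∨ L = M) →
        ∀ m ∈ M, x * m * x⁻¹ = m) ∨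
      ∃ M : Subgroup H, M.Normal ∧ M ≤ X ∧ M ≠ ⊥ ∧ (∀ L : Subgroup H, L.Normal → L ≤ M → L = ⊥ ∨ L = M) ∧
        ∃ m ∈ M, x * m * x⁻¹ ≠ m := by
    by_cases hc : ∃ M : Subgroup H, M.Normal ∧ M ≤ X ∧ M ≠ ⊥ ∧
        (∀ L : Subgroup H, L.Normal → L ≤ M → L = ⊥ ∨ L = M) ∧ ∃ m ∈ M, x * m * x⁻¹ ≠ m
    · exact Or.inr hc
    · left
      push Not at hc
      exact hc
  · intro g hg
    by_contra hc
    -- the elements of `X` centralising all minimal normal subgroups inside `X`
    let K : Subgroup H :=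
      { carrier := {c | c ∈ X ∧ ∀ M : Subgroup H, M.Normal → M ≤ X → M ≠ ⊥ →
          (∀ L : Subgroup H, L.Normal → L ≤ M → L = ⊥ ∨ L = M) → ∀ m ∈ M, c * m * c⁻¹ = m}
        one_mem' := ⟨X.one_mem, fun M _ _ _ _ m _ => by group⟩
        mul_mem' := fun {a b} ha hb => ⟨X.mul_mem ha.1 hb.1, fun M h1 h2 h3 h4 m hm => by
          have e1 := ha.2 M h1 h2 h3 h4 m hm
          have e2 := hb.2 M h1 h2 h3 h4 m hm
          calc a * b * m * (a * b)⁻¹ = a * (b * m * b⁻¹) * a⁻¹ := by group
            _ = m := by rw [e2, e1]⟩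
        inv_mem' := fun {a} ha => ⟨X.inv_mem ha.1, fun M h1 h2 h3 h4 m hm => by
          have e1 := ha.2 M h1 h2 h3 h4 m hm
          calc a⁻¹ * m * (a⁻¹)⁻¹ = a⁻¹ * (a * m * a⁻¹) * a := by rw [e1, inv_inv]
            _ = m := by group⟩ }
    have hKn : K.Normal := by
      refine ⟨fun c hcK h => ⟨hX.conj_mem c hcK.1 h, fun M h1 h2 h3 h4 m hm => ?_⟩⟩
      have e1 := hcK.2 M h1 h2 h3 h4 (h⁻¹ * m * h) (by
        have := h1.conj_mem m hm h⁻¹
        rwa [inv_inv] at this)
      calc h * c * h⁻¹ * m * (h * c * h⁻¹)⁻¹ = h * (c * (h⁻¹ * m * h) * c⁻¹) * h⁻¹ := by group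
        _ = m := by rw [e1]; group
    have hKX : K ≤ X := fun c hcK => hcK.1
    have hcK : x * g * x⁻¹ * g⁻¹ ∈ K := by
      refine ⟨X.mul_mem (hX.conj_mem g hg x) (X.inv_mem hg), fun M h1 h2 h3 h4 m hm => ?_⟩
      have hm' : g⁻¹ * m * g ∈ M := by
        have := h1.conj_mem m hm g⁻¹
        rwa [inv_inv] at this
      have e1 := hall M h1 h2 h3 h4 _ hm'
      have e2 : x⁻¹ * (g⁻¹ * m * g) * x = g⁻¹ * m * g := by
        calc x⁻¹ * (g⁻¹ * m * g) * x = x⁻¹ * (x * (g⁻¹ * m * g) * x⁻¹) * x := by rw [e1]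
          _ = g⁻¹ * m * g := by group
      have e3 := hall M h1 h2 h3 h4 m hm
      calc x * g * x⁻¹ * g⁻¹ * m * (x * g * x⁻¹ * g⁻¹)⁻¹ =
          x * g * (x⁻¹ * (g⁻¹ * m * g) * x) * g⁻¹ * x⁻¹ := by group
        _ = x * m * x⁻¹ := by rw [e2]; group
        _ = m := e3
    have hK0 : K ≠ ⊥ := by
      intro h0
      rw [h0, mem_bot] at hcK
      exact hc hcK
    obtain ⟨M, hMn, hMK, hM0, hmin⟩ := H671.Frame.exists_minNormal hKn hK0
    apply hM0
    apply hR M hMn (hMK.trans hKX)
    have hcomm : ∀ a b : M, a * b = b * a := by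
      intro a b
      have e1 := (hMK a.2).2 M hMn (hMK.trans hKX) hM0 hmin b b.2
      apply Subtype.ext
      show (a : H) * b = b * a
      calc (a : H) * b = a * b * (a : H)⁻¹ * a := by group
        _ = b * a := by rw [e1]
    let _ : CommGroup M := { (inferInstance : Group M) with mul_comm := hcomm }
    infer_instance
  · exfalso
    have hna : ¬ IsMulCommutative M := by
      intro hcomm
      apply hM0
      apply hR M hMn hMX
      let _ : CommGroup M := { (inferInstance : Group M) with mul_comm := hcomm.1.1 }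
      infer_instance
    obtain ⟨S, iS, iS', k, hk, hSna, ⟨e⟩⟩ := H671.Frame.minNormal_pi hMn hM0 hmin hna
    have hfinS : Finite S := by
      have h1 : Finite (Fin k → S) := Finite.of_equiv M e.toEquiv
      refine Finite.of_injective (fun s : S => (fun _ : Fin k => s)) (fun a b hab => ?_)
      exact congrFun hab ⟨0, hk⟩
    -- lift to the universe `u`
    have hsimp : IsSimpleGroup (ULift.{u} S) :=
      (MulEquiv.isSimpleGroup_congr (MulEquiv.ulift : ULift.{u} S ≃* S)).2 iS'
    have hna' : ¬ IsMulCommutative (ULift.{u} S) := by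
      intro h1
      apply hSna
      refine ⟨⟨fun a b => ?_⟩⟩
      exact ULift.up_injective (h1.1.1 (ULift.up a) (ULift.up b))
    let e' : M ≃* (Fin k → ULift.{u} S) := e.trans (MulEquiv.piCongrRight (fun _ => (MulEquiv.ulift.symm : S ≃* ULift.{u} S)))
    refine main_step hO hna' e' (MulAut.conjNormal x) (orderOf x) hx ?_ ?_ ?_ ?_
    · rw [← map_pow, pow_orderOf_eq_one, map_one]
    · intro h1
      apply hmx
      have h2 := congrArg (fun (f : MulAut M) => ((f ⟨m, hm⟩ : M) : H)) h1
      simpa using h2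
    · intro h1
      exact hxX (h1.trans (card_dvd_of_le hMX))
    · intro p _ hp
      have hp' : p.Prime := Fact.out
      obtain ⟨V, hV⟩ := exists_fixed_sylow X M hMX x p (fun h1 => hp (hind p hp' h1))
      refine ⟨V, fun v hv => Subtype.ext ?_⟩
      rw [MulAut.conjNormal_apply]
      exact hV v hv

/-- Task 2541. -/
theorem factG (hO : FactOut.{u}) : FactG.{u} := by
  suffices hmain : ∀ (n : ℕ) (H : Type u) [Group H] [Finite H] (X : Subgroup H) [X.Normal] (x : H),
      Nat.card H = n → (orderOf x).Prime → ¬ orderOf x ∣ Nat.card X →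
      (∀ r : ℕ, r.Prime → r ∣ (Subgroup.centralizer ({x} : Set H)).relIndex X → orderOf x ∣ r - 1) →
      ∃ R : Subgroup H, R.Normal ∧ R ≤ X ∧ Group.IsSolvable R ∧ ∀ g ∈ X, x * g * x⁻¹ * g⁻¹ ∈ R by
    intro H _ _ X _ x h1 h2 h3
    exact hmain _ H X x rfl h1 h2 h3
  intro n
  induction n using Nat.strong_induction_on with
  | _ n ih =>
    intro H _ _ X hX x hn hx hxX hind
    by_cases hR : ∀ R : Subgroup H, R.Normal → R ≤ X → Group.IsSolvable R → R = ⊥
    · refine ⟨⊥, inferInstance, bot_le, inferInstance, fun g hg => ?_⟩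
      rw [mem_bot]
      exact centralizes hO H X x hx hxX hind hR g hg
    · push Not at hR
      obtain ⟨R, hRn, hRX, hRs, hR0⟩ := hR
      set π := QuotientGroup.mk' R with hπ
      have hπs : Function.Surjective π := QuotientGroup.mk'_surjective R
      have hXn : (X.map π).Normal := Subgroup.Normal.map hX π hπs
      have hord : orderOf (π x) = orderOf x := by
        have h1 := orderOf_map_dvd π x
        rcases (Nat.dvd_prime hx).1 h1 with h2 | h2
        · exfalso
          rw [orderOf_eq_one_iff, hπ, QuotientGroup.mk'_apply, QuotientGroup.eq_one_iff] at h2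
          apply hxX
          have h3 : orderOf (⟨x, hRX h2⟩ : X) ∣ Nat.card X := orderOf_dvd_natCard _
          rwa [Subgroup.orderOf_mk] at h3
        · exact h2
      have hcard : Nat.card (H ⧸ R) < n := by
        rw [← hn, Subgroup.card_eq_card_quotient_mul_card_subgroup R]
        have h1 : 1 < Nat.card R := by
          rw [Subgroup.one_lt_card_iff_ne_bot]
          exact hR0
        have h2 : 0 < Nat.card (H ⧸ R) := Nat.card_pos
        nlinarith
      obtain ⟨R', hR'n, hR'X, hR's, hR'⟩ := ih _ hcard (H ⧸ R) (X.map π) (π x) rfl (by rw [hord]; exact hx)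
        (by
          rw [hord]
          intro h1
          exact hxX (h1.trans (Subgroup.card_map_dvd X π)))
        (by
          intro r hr hrd
          rw [hord]
          apply hind r hr
          refine hrd.trans ?_
          rw [← relIndex_comap]
          apply relIndex_dvd_of_le_left
          intro c hc
          rw [mem_comap, mem_centralizer_iff]
          intro y hy
          rw [Set.mem_singleton_iff] at hy
          rw [hy, ← map_mul, ← map_mul, (mem_centralizer_iff.1 hc) x rfl])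
      refine ⟨R'.comap π, inferInstance, ?_, ?_, ?_⟩
      · intro y hy
        have h1 := hR'X (mem_comap.1 hy)
        obtain ⟨z, hz, hzy⟩ := h1
        rw [hπ, QuotientGroup.mk'_apply, QuotientGroup.mk'_apply, QuotientGroup.eq] at hzy
        have h2 : y = z * (z⁻¹ * y) := by group
        rw [h2]
        exact X.mul_mem hz (hRX hzy)
      · have hRle : R ≤ R'.comap π := by
          intro r hr
          rw [mem_comap, hπ, QuotientGroup.mk'_apply, (QuotientGroup.eq_one_iff r).2 hr]
          exact R'.one_mem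
        let g : R'.comap π →* R' := π.subgroupComap R'
        refine Group.isSolvable_of_ker_le_range (Subgroup.inclusion hRle) g ?_
        rintro ⟨y, hy⟩ hyk
        rw [MonoidHom.mem_ker] at hyk
        have h1 : π y = 1 := congrArg Subtype.val hyk
        rw [hπ, QuotientGroup.mk'_apply, QuotientGroup.eq_one_iff] at h1
        exact ⟨⟨y, h1⟩, rfl⟩
      · intro g hg
        rw [mem_comap]
        have h1 := hR' (π g) (mem_map_of_mem π hg)
        rwa [← map_mul, ← map_inv, ← map_mul, ← map_inv, ← map_mul] at h1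

end Cfsg.Agent.H248.Four
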