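import Cfsg.Agent.H672.Four.InterfaceB
import Cfsg.Agent.H670.Palfy.Base
import Cfsg.Agent.H671.Frame
import Cfsg.Agent.Schreier.Tools
import Cfsg.Agent.S0025

/-!
# S4773, piece I (task 2543): modules of order `2 ^ 6` (helper248)
-/

set_option autoImplicit false

namespace Cfsg.Agent.H248.Four

open Subgroup MulAction Cfsg.Agent.H672.Four Cfsg.Agent.H670.Palfy
open scoped Pointwise

universe u v

section

variable {H : Type u} [Group H] [Finite H]

/-- The orbit of a Sylow `t`-subgroup `T` under a subgroup normalised by `T` has length `≡ 1 mod t`. -/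
theorem relIndex_mod {t : ℕ} [Fact t.Prime] (T : Sylow t H) (Y : Subgroup H)
    (hY : (T : Subgroup H) ≤ normalizer (Y : Set H)) : (normalizer (T : Set H)).relIndex Y ≡ 1 [MOD t] := by
  classical
  let O : Set (Sylow t H) := orbit Y T
  have hT : ∀ τ : (T : Subgroup H), (τ : H) • T = T := fun τ => by
    rw [Sylow.smul_eq_iff_mem_normalizer]
    exact le_normalizer τ.2
  have hO : ∀ (τ : (T : Subgroup H)) (Q : Sylow t H), Q ∈ O → (τ : H) • Q ∈ O := by
    rintro τ Q ⟨y, rfl⟩
    have h1 : (τ : H) * y * (τ : H)⁻¹ ∈ Y := (mem_normalizer_iff.1 (hY τ.2) _).1 y.2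
    refine ⟨⟨(τ : H) * y * (τ : H)⁻¹, h1⟩, ?_⟩
    show ((τ : H) * y * (τ : H)⁻¹) • T = (τ : H) • ((y : H) • T)
    have h2 : (τ : H)⁻¹ • T = T := hT τ⁻¹
    rw [mul_smul, h2, mul_smul]
  let inst : MulAction (T : Subgroup H) O :=
    { smul := fun τ Q => ⟨(τ : H) • (Q : Sylow t H), hO τ _ Q.2⟩
      one_smul := fun Q => Subtype.ext (one_smul H (Q : Sylow t H))
      mul_smul := fun a b Q => Subtype.ext (mul_smul (a : H) (b : H) (Q : Sylow t H)) }
  have h1 : Nat.card O ≡ Nat.card (fixedPoints (T : Subgroup H) O) [MOD t] :=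
    T.2.card_modEq_card_fixedPoints O
  have h2 : Nat.card (fixedPoints (T : Subgroup H) O) = 1 := by
    rw [Nat.card_eq_one_iff_unique]
    refine ⟨⟨?_⟩, ⟨⟨⟨T, mem_orbit_self T⟩, ?_⟩⟩⟩
    · have key : ∀ Q : fixedPoints (T : Subgroup H) O, ((Q : O) : Sylow t H) = T := by
        intro Q
        have h3 : ((Q : O) : Sylow t H) ∈ fixedPoints (T : Subgroup H) (Sylow t H) := by
          intro τ
          exact congrArg Subtype.val (Q.2 τ)
        rw [T.2.sylow_mem_fixedPoints_iff] at h3
        exact Sylow.ext (T.3 (((Q : O) : Sylow t H)).2 h3)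
      intro a b
      exact Subtype.ext (Subtype.ext ((key a).trans (key b).symm))
    · intro τ
      exact Subtype.ext (hT τ)
  rw [h2] at h1
  have h3 : (normalizer (T : Set H)).relIndex Y = Nat.card O := by
    have h4 : (normalizer (T : Set H)).subgroupOf Y = stabilizer Y T := by
      ext y
      rw [mem_subgroupOf, mem_stabilizer_iff, ← Sylow.smul_eq_iff_mem_normalizer]
      rfl
    rw [relIndex, h4, index_stabilizer]
    exact (Nat.card_coe_set_eq O).symm
  rw [h3]
  exact h1

theorem relIndex_le_index' (K Y : Subgroup H) : K.relIndex Y ≤ K.index := by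
  have h := relIndex_le_of_le_right (H := K) (le_top : Y ≤ ⊤) (by
    rw [relIndex_top_right]; exact index_ne_zero_of_finite)
  rwa [relIndex_top_right] at h

theorem relIndex_dvd_index' (K X : Subgroup H) [X.Normal] : K.relIndex X ∣ K.index := by
  have h1 : K.relIndex (K ⊔ X) * (K ⊔ X).index = K.index := relIndex_mul_index le_sup_left
  have h2 : K.relIndex (K ⊔ X) = K.relIndex X := by
    have e1 : (K ⊓ X).relIndex X * X.relIndex (K ⊔ X) = (K ⊓ X).relIndex (K ⊔ X) :=
      relIndex_mul_relIndex _ _ _ inf_le_right le_sup_right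
    have e2 : (K ⊓ X).relIndex K * K.relIndex (K ⊔ X) = (K ⊓ X).relIndex (K ⊔ X) :=
      relIndex_mul_relIndex _ _ _ inf_le_left le_sup_left
    rw [← e2, inf_relIndex_right, inf_relIndex_left, relIndex_sup_right, mul_comm] at e1
    have h0 : 0 < X.relIndex K := Nat.pos_of_ne_zero index_ne_zero_of_finite
    exact (Nat.eq_of_mul_eq_mul_left h0 e1).symm
  rw [← h1, h2]
  exact dvd_mul_right _ _

end

variable {H : Type u} {V : Type v} [Group H] [Finite H] [AddCommGroup V] [Finite V] [DistribMulAction H V]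

/-- The possible parameters. -/
theorem params (hf : Faith H V) (hV : Nat.card V = 2 ^ 6) {t : ℕ} [ht : Fact t.Prime] (ht2 : t ≠ 2)
    (htH : t ∣ Nat.card H) (h : UF t H (⊥ : AddSubgroup V)) (T : Sylow t H) :
    (t = 31 ∧ Nat.card (fixed V (T : Subgroup H)) = 2 ∧ Nat.card (Sylow t H) = 63) ∨
      (t = 5 ∧ Nat.card (fixed V (T : Subgroup H)) = 4 ∧ Nat.card (Sylow t H) = 21) := by
  have hT : ¬ Triv V (T : Subgroup H) := by
    intro h1
    have h2 : (T : Subgroup H) = ⊥ := by
      rw [eq_bot_iff]
      intro x hx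
      rw [mem_bot]
      exact hf x (h1 x hx)
    exact T.ne_bot_of_dvd_card htH h2
  obtain ⟨m, hm0, hm6, hc, hn⟩ := h.params Nat.prime_two hV (by norm_num) T (h.card_ne_one hT)
  have hmod := card_sylow_modEq_one t H
  have hdvd : t ∣ Nat.card (Sylow t H) - 1 := (Nat.modEq_iff_dvd' Nat.card_pos).1 hmod.symm
  have htp := ht.out
  interval_cases m
  · left
    have h1 : Nat.card (Sylow t H) = 63 := by omega
    rw [h1] at hdvd
    have h2 : t ∣ 2 * 31 := hdvd
    rcases (Nat.Prime.dvd_mul htp).1 h2 with h3 | h3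
    · exact absurd ((Nat.prime_dvd_prime_iff_eq htp Nat.prime_two).1 h3) ht2
    · exact ⟨(Nat.prime_dvd_prime_iff_eq htp (by norm_num)).1 h3, by rw [hc]; norm_num, h1⟩
  · right
    have h1 : Nat.card (Sylow t H) = 21 := by omega
    rw [h1] at hdvd
    have h2 : t ∣ 2 ^ 2 * 5 := hdvd
    rcases (Nat.Prime.dvd_mul htp).1 h2 with h3 | h3
    · exact absurd ((Nat.prime_dvd_prime_iff_eq htp Nat.prime_two).1 (htp.dvd_of_dvd_pow h3)) ht2
    · exact ⟨(Nat.prime_dvd_prime_iff_eq htp (by norm_num)).1 h3, by rw [hc]; norm_num, h1⟩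
  · exfalso
    have h1 : Nat.card (Sylow t H) = 9 := by omega
    rw [h1] at hdvd
    have h2 : t ∣ 2 ^ 3 := hdvd
    exact ht2 ((Nat.prime_dvd_prime_iff_eq htp Nat.prime_two).1 (htp.dvd_of_dvd_pow h2))
  · exfalso
    omega
  · exfalso
    omega

/-- Task 2543, second part. -/
theorem factTwoSix' : FactTwoSix'.{u, v} := by
  intro H V _ _ _ _ _ hf hV s t hs ht hst hs2 ht2 hsH htH hus hut
  have : Fact s.Prime := ⟨hs⟩
  have : Fact t.Prime := ⟨ht⟩
  -- the case `s = 31`, `t = 5`
  have key : ∀ s t : ℕ, ∀ [Fact s.Prime] [Fact t.Prime], s = 31 → t = 5 → s ∣ Nat.card H → t ∣ Nat.card H →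
      UF s H (⊥ : AddSubgroup V) → UF t H (⊥ : AddSubgroup V) → False := by
    intro s t _ _ hs ht hsH htH hus hut
    have hnt : Nontrivial V := by
      rw [← Finite.one_lt_card_iff_nontrivial, hV]
      norm_num
    obtain ⟨v, hv⟩ := exists_ne (0 : V)
    obtain ⟨A, hA, hAu⟩ := hus v hv
    obtain ⟨B, hB, hBu⟩ := hut v hv
    have hA2 : Nat.card (fixed V (A : Subgroup H)) = 2 := by
      rcases params hf hV (by omega) hsH hus A with h1 | h1
      · exact h1.2.1
      · omega
    have hB4 : Nat.card (fixed V (B : Subgroup H)) = 4 := by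
      rcases params hf hV (by omega) htH hut B with h1 | h1
      · omega
      · exact h1.2.1
    -- `A` normalises `B`
    have hAB : ∀ a ∈ (A : Subgroup H), a • B = B := by
      intro a ha
      apply hBu
      intro x hx
      have h1 := fix_conj (Q := B) hB a x hx
      rwa [hA a ha] at h1
    -- `A` acts on the fixed vectors of `B` different from `0` and `v`
    let W := {w : V // w ∈ fixed V (B : Subgroup H) ∧ w ≠ 0 ∧ w ≠ v}
    have hWcard : Nat.card W < s := by
      have h1 : Nat.card W ≤ Nat.card (fixed V (B : Subgroup H)) :=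
        Nat.card_le_card_of_injective (fun w : W => (⟨w.1, w.2.1⟩ : fixed V (B : Subgroup H)))
          (fun a b hab => Subtype.ext (congrArg (fun x : fixed V (B : Subgroup H) => (x : V)) hab))
      omega
    have hact : ∀ a ∈ (A : Subgroup H), ∀ w ∈ fixed V (B : Subgroup H), a • w ∈ fixed V (B : Subgroup H) := by
      intro a ha w hw x hx
      have h1 := fix_conj (Q := B) hw a x
      rw [hAB a ha] at h1
      exact h1 hx
    let inst : MulAction (A : Subgroup H) W :=
      { smul := fun a w => ⟨(a : H) • (w : V), hact a a.2 _ w.2.1, by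
          intro h0
          exact w.2.2.1 ((smul_eq_zero_iff_eq (a : H)).1 h0), by
          intro h0
          apply w.2.2.2
          have h1 := hA a a.2
          exact smul_left_cancel (a : H) (h0.trans h1.symm)⟩
        one_smul := fun w => Subtype.ext (one_smul H (w : V))
        mul_smul := fun a b w => Subtype.ext (mul_smul (a : H) (b : H) (w : V)) }
    have hfix : ∀ (a : (A : Subgroup H)) (w : W), a • w = w := by
      intro a w
      have h1 : Nat.card (orbit (A : Subgroup H) w) ≤ Nat.card W := Finite.card_subtype_le _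
      obtain ⟨n, hn⟩ := A.2.card_orbit w
      have h2 : n = 0 := by
        by_contra h0
        have h3 : s ^ 1 ≤ s ^ n := Nat.pow_le_pow_right (Fact.out : s.Prime).pos (by omega)
        rw [pow_one] at h3
        omega
      rw [h2, pow_zero, Nat.card_eq_one_iff_unique] at hn
      have h3 := hn.1.elim (⟨a • w, mem_orbit w a⟩ : orbit (A : Subgroup H) w) ⟨w, mem_orbit_self w⟩
      exact congrArg Subtype.val h3
    have hle : Nat.card (fixed V (B : Subgroup H)) ≤ Nat.card (fixed V (A : Subgroup H)) := by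
      apply AddSubgroup.card_le_of_le
      intro w hw a ha
      by_cases hw0 : w = 0
      · rw [hw0, smul_zero]
      by_cases hwv : w = v
      · rw [hwv]; exact hA a ha
      exact congrArg Subtype.val (hfix ⟨a, ha⟩ ⟨w, hw, hw0, hwv⟩)
    omega
  obtain ⟨S⟩ : Nonempty (Sylow s H) := inferInstance
  obtain ⟨T⟩ : Nonempty (Sylow t H) := inferInstance
  rcases params hf hV hs2 hsH hus S with h1 | h1 <;> rcases params hf hV ht2 htH hut T with h2 | h2
  · exact hst (h1.1.trans h2.1.symm)
  · exact key s t h1.1 h2.1 hsH htH hus hut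
  · exact key t s h2.1 h1.1 htH hsH hut hus
  · exact hst (h1.1.trans h2.1.symm)

/-- A normal `t'`-subgroup normalises the Sylow `t`-subgroups. -/
theorem le_normalizer_of (hf : Faith H V) (hV : Nat.card V = 2 ^ 6) {t : ℕ} [ht : Fact t.Prime] (ht2 : t ≠ 2)
    (htH : t ∣ Nat.card H) (h : UF t H (⊥ : AddSubgroup V)) (X : Subgroup H) [hX : X.Normal]
    (htX : ¬ t ∣ Nat.card X) (T : Sylow t H) : X ≤ normalizer (T : Set H) := by
  have hnorm : (T : Subgroup H) ≤ normalizer (X : Set H) := by
    rw [X.normalizer_eq_top]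
    exact le_top
  set N := normalizer (T : Set H) with hN
  have hcN : Nat.card (Sylow t H) = N.index := T.card_eq_index_normalizer
  have hd : N.relIndex X ∣ Nat.card (Sylow t H) := by
    rw [hcN]
    exact relIndex_dvd_index' N X
  have hmod : N.relIndex X ≡ 1 [MOD t] := relIndex_mod T X hnorm
  -- an invariant Sylow `7`-subgroup
  have h7 : Fact (Nat.Prime 7) := ⟨by norm_num⟩
  have hcop : (Nat.card (T : Subgroup H)).Coprime (Nat.card X) := by
    obtain ⟨n, hn⟩ := T.2.exists_card_eq
    rw [hn]
    exact Nat.Coprime.pow_left _ ((Nat.Prime.coprime_iff_not_dvd ht.out).2 htX)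
  have hTs : Group.IsSolvable (T : Subgroup H) := by
    have : Group.IsNilpotent (T : Subgroup H) := T.2.isNilpotent
    infer_instance
  obtain ⟨U, -, hU⟩ := S0025.result (T : Subgroup H) X hnorm hcop (Or.inl hTs) 7 ⊥ bot_le IsPGroup.of_bot (by
    intro a _
    rw [mem_normalizer_iff]
    intro y
    rw [mem_bot, mem_bot, conj_eq_one_iff])
  have hmodU := relIndex_mod T ((U : Subgroup X).map X.subtype) hU
  have hUle : N.relIndex ((U : Subgroup X).map X.subtype) ≤ Nat.card (Sylow t H) := by
    rw [hcN]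
    exact relIndex_le_index' _ _
  obtain ⟨j, hj⟩ : ∃ j, N.relIndex ((U : Subgroup X).map X.subtype) = 7 ^ j := by
    have h1 := relIndex_dvd_card N ((U : Subgroup X).map X.subtype)
    obtain ⟨n, hn⟩ := (U.2.map X.subtype).exists_card_eq
    rw [hn] at h1
    obtain ⟨j, -, hj⟩ := (Nat.dvd_prime_pow h7.out).1 h1
    exact ⟨j, hj⟩
  have hj0 : j = 0 := by
    rw [hj] at hmodU hUle
    by_contra hj0
    rcases params hf hV ht2 htH h T with ⟨h1, -, h3⟩ | ⟨h1, -, h3⟩
    · have hj2 : j ≤ 2 := by
        by_contra hc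
        have : 7 ^ 3 ≤ 7 ^ j := Nat.pow_le_pow_right (by norm_num) (by omega)
        omega
      subst h1
      interval_cases j
      · exact hj0 rfl
      · revert hmodU; decide
      · revert hmodU; decide
    · have hj2 : j ≤ 1 := by
        by_contra hc
        have : 7 ^ 2 ≤ 7 ^ j := Nat.pow_le_pow_right (by norm_num) (by omega)
        omega
      subst h1
      interval_cases j
      · exact hj0 rfl
      · revert hmodU; decide
  rw [hj0, pow_zero] at hj
  have hUN : (U : Subgroup X) ≤ N.subgroupOf X := by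
    intro u hu
    rw [mem_subgroupOf]
    rw [relIndex_eq_one] at hj
    exact hj ⟨u, hu, rfl⟩
  have h7d : ¬ 7 ∣ N.relIndex X := fun h1 => U.not_dvd_index (h1.trans (index_dvd_of_le hUN))
  rw [← relIndex_eq_one]
  rcases params hf hV ht2 htH h T with ⟨h1, -, h3⟩ | ⟨h1, -, h3⟩
  · rw [h3] at hd
    subst h1
    have h4 : N.relIndex X ≤ 63 := Nat.le_of_dvd (by norm_num) hd
    generalize N.relIndex X = d at *
    have h5 : d % 31 = 1 := hmod
    have h6 : d = 1 ∨ d = 32 ∨ d = 63 := by omega
    rcases h6 with h6 | h6 | h6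
    · exact h6
    · subst h6; revert hd; decide
    · subst h6; exact absurd (by norm_num) h7d
  · rw [h3] at hd
    subst h1
    have h4 : N.relIndex X ≤ 21 := Nat.le_of_dvd (by norm_num) hd
    generalize N.relIndex X = d at *
    have h5 : d % 5 = 1 := hmod
    have h6 : d = 1 ∨ d = 6 ∨ d = 11 ∨ d = 16 ∨ d = 21 := by omega
    rcases h6 with h6 | h6 | h6 | h6 | h6
    · exact h6
    · subst h6; revert hd; decide
    · subst h6; revert hd; decide
    · subst h6; revert hd; decide
    · subst h6; exact absurd (by norm_num) h7d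

/-- A homomorphism from a perfect group to a solvable group is trivial. -/
theorem perfect_trivial {K P : Type*} [Group K] [Group P] (hK : commutator K = ⊤) (hP : Group.IsSolvable P)
    (f : K →* P) (k : K) : f k = 1 := by
  obtain ⟨n, hn⟩ := hP.solvable
  have h1 : ∀ n, derivedSeries K n = ⊤ := by
    intro n
    induction n with
    | zero => rfl
    | succ n ih => rw [derivedSeries_succ, ih]; exact hK
  have h2 := map_derivedSeries_le_derivedSeries f n
  rw [h1 n, hn] at h2
  exact (mem_bot.1 (h2 (mem_map_of_mem f (mem_top k))))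

/-- Task 2543, first part. -/
theorem factTwoSix : FactTwoSix.{u, v} := by
  intro H V _ _ _ _ _ hf hV t ht ht2 htH h X hX htX
  have : Fact t.Prime := ⟨ht⟩
  obtain ⟨K, hKn, hKp, hKs⟩ := H671.Frame.exists_residual X
  have hKperf : commutator K = ⊤ := by
    apply Subgroup.map_injective K.subtype_injective
    rw [Subgroup.map_subtype_commutator, hKp, ← MonoidHom.range_eq_map, K.range_subtype]
  have hK1 : K = ⊥ := by
    rw [eq_bot_iff]
    intro k hk
    rw [mem_bot]
    apply Subtype.ext
    apply hf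
    intro v
    by_cases hv : v = 0
    · rw [hv, smul_zero]
    obtain ⟨T, hT, -⟩ := h v hv
    have hXT := le_normalizer_of hf hV ht2 htH h X htX T
    let F := {w : V // w ∈ fixed V (T : Subgroup H)}
    have hF4 : Nat.card F ≤ 4 := by
      have h1 : Nat.card F = Nat.card (fixed V (T : Subgroup H)) := rfl
      rcases params hf hV ht2 htH h T with h2 | h2 <;> omega
    have hact : ∀ x : X, ∀ w ∈ fixed V (T : Subgroup H), (x : H) • w ∈ fixed V (T : Subgroup H) := by
      intro x w hw y hy
      have h1 := fix_conj (Q := T) hw x y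
      rw [Sylow.smul_eq_iff_mem_normalizer.2 (hXT x.2)] at h1
      exact h1 hy
    let inst : MulAction X F :=
      { smul := fun x w => ⟨(x : H) • (w : V), hact x _ w.2⟩
        one_smul := fun w => Subtype.ext (one_smul H (w : V))
        mul_smul := fun a b w => Subtype.ext (mul_smul (a : H) (b : H) (w : V)) }
    have hsol : Group.IsSolvable (Equiv.Perm F) := Schreier.Tools.isSolvable_perm_of_card_le_four F hF4
    have h2 := perfect_trivial hKperf hsol ((MulAction.toPermHom X F).comp K.subtype) ⟨k, hk⟩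
    have h3 := congrArg (fun f : Equiv.Perm F => ((f ⟨v, hT⟩ : F) : V)) h2
    exact h3
  subst hK1
  exact Group.isSolvable_of_surjective (f := ((QuotientGroup.quotientBot : X ⧸ (⊥ : Subgroup X) ≃* X) : (X ⧸ (⊥ : Subgroup X)) →* X))
    (QuotientGroup.quotientBot : X ⧸ (⊥ : Subgroup X) ≃* X).surjective

end Cfsg.Agent.H248.Four
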